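import Cfsg.Agent.H770.CY.Defs
import Cfsg.Agent.H31.BR.PolInst

/-!
# S4829, classical groups in cross characteristic: the interface for the polar spaces (helper439)

Every polar family (`PSp`, `PSU`, `PΩ` odd, minus, plus) is handled by two arguments.
* (A) `PolA` and `p ∣ |X k|` for some `1 ≤ k ≤ K` : `RowA p S` (Target `RowDvd`).
* (B) `PolL` (linear type: `p` divides no `s |F| ^ i + 1`), `d` the order of `|F|` modulo `p`, `|X d| ≡ 2 a` modulo `p` with
  `a ≢ 1` modulo `p` : `RowA p S` (Target `RowMatch`), by helper650's matching argument on `X d`, from the three geometric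
  facts `OppEx`, `OppUni`, `OppPair`.
-/

set_option autoImplicit false

open Module Subgroup Cfsg
open Cfsg.Agent.H2.Pol Cfsg.Agent.H674.BR Cfsg.Agent.H646.BR Cfsg.Agent.H145.BR Cfsg.Agent.H623.BR
open Cfsg.Agent.H770.CY

namespace Cfsg.Agent.H439.CY

universe u v

/-- `S = H / ker` acts on the polar space, it is transitive on the pairs of totally singular `j`-spaces of each type
for `1 ≤ j ≤ K`, and all automorphisms of `S` are induced by semisimilarities -/
structure PolA {F V : Type*} {H : Type*} {S : Type u} [Field F] [AddCommGroup V] [Module F V]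
    [Group H] [Group S] (Φ : Pol F V) (ρ' : H →* (V ≃ₗ[F] V)) (π : H →* S) (K : ℕ) : Prop where
  model : Model Φ ρ' π
  reg : ∃ cc : ℕ → ℕ, Φ.Reg cc
  pair : ∀ j, 1 ≤ j → j ≤ K → ∀ U U2 W W2 : Φ.X j, typ Φ U.1 U2.1 = typ Φ W.1 W2.1 →
    ∃ g : H, U.1.map (ρ' g : V →ₗ[F] V) = W.1 ∧ U2.1.map (ρ' g : V →ₗ[F] V) = W2.1
  aut : ∀ a : MulAut S, ∃ M : V ≃+ V, SemiAct Φ M ∧ Induces ρ' π M a

/-- (A) -/
def RowDvd : Prop :=
  ∀ {p : ℕ} [Fact p.Prime] {F V H : Type} {S : Type} [Field F] [Fintype F] [AddCommGroup V] [Module F V]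
    [FiniteDimensional F V] [Group H] [Group S] [Fintype S] {Φ : Pol F V} {ρ' : H →* (V ≃ₗ[F] V)} {π : H →* S} {K : ℕ},
    PolA Φ ρ' π K → ∀ k, 1 ≤ k → k ≤ K → Nonempty (Φ.X k) → p ∣ Nat.card (Φ.X k) → RowA p S

/-- the isometry group `G` (or a group between) with Witt's property, linear type with respect to `p`.
`U` and `U'` are opposite if `U ⊓ perp U' = ⊥`. -/
structure LinType (p : ℕ) {F V G : Type*} [Field F] [Fintype F] [AddCommGroup V] [Module F V] [Group G]
    (Φ : Pol F V) (ρ : G →* (V ≃ₗ[F] V)) : Prop where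
  pres : Pres Φ ρ
  witt : WittTS Φ ρ
  notdvd : ¬ p ∣ Fintype.card F
  La : ∀ x y y' : V, Φ.L (y + y') x = Φ.L y x + Φ.L y' x
  /-- semilinear in the second variable, and the type is linear -/
  Ls : ∃ r j s : ℕ, r.Prime ∧ CharP F r ∧ s = r ^ j ∧ (∀ i : ℕ, ¬ p ∣ s * Fintype.card F ^ i + 1) ∧
    ∀ (a : F) (x y : V), Φ.L (a • y) x = a ^ s * Φ.L y x
  /-- nondegenerate on the totally singular subspaces -/
  nondeg : ∀ U : Submodule F V, Φ.TI U → finrank F (Φ.perp U) + finrank F U = finrank F V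
  /-- `Q (g x - x) = 2 Q (x) - B (g x, x)` -/
  sing_sub : ∀ (g : G) (x : V), Φ.L x x = 0 → Φ.L x (ρ g x) = 0 → Φ.sing (ρ g x - x)

/-- opposite subspaces (of the same dimension) -/
def Opp {F V : Type*} [Field F] [AddCommGroup V] [Module F V] (Φ : Pol F V) (U U' : Submodule F V) : Prop :=
  U ⊓ Φ.perp U' = ⊥

/-- existence: a `P`-invariant totally singular `d`-space has a `P`-invariant totally singular opposite `d`-space -/
def OppEx : Prop :=
  ∀ {p : ℕ} [Fact p.Prime] {F V G : Type} [Field F] [Fintype F] [AddCommGroup V] [Module F V]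
    [FiniteDimensional F V] [Group G] [Finite G] {Φ : Pol F V} {ρ : G →* (V ≃ₗ[F] V)}, LinType p Φ ρ →
    ∀ (P : Sylow p G) (U : Submodule F V), Φ.TI U → (∀ g ∈ P, mv ρ g U = U) →
      finrank F U = orderOf ((Fintype.card F : ℕ) : ZMod p) →
      ∃ U' : Submodule F V, Φ.TI U' ∧ finrank F U' = finrank F U ∧ (∀ g ∈ P, mv ρ g U' = U') ∧ Opp Φ U U'

/-- uniqueness -/
def OppUni : Prop :=
  ∀ {p : ℕ} [Fact p.Prime] {F V G : Type} [Field F] [Fintype F] [AddCommGroup V] [Module F V]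
    [FiniteDimensional F V] [Group G] [Finite G] {Φ : Pol F V} {ρ : G →* (V ≃ₗ[F] V)}, LinType p Φ ρ →
    ∀ (P : Sylow p G) (U U' U'' : Submodule F V), Φ.TI U → Φ.TI U' → Φ.TI U'' →
      (∀ g ∈ P, mv ρ g U = U) → (∀ g ∈ P, mv ρ g U' = U') → (∀ g ∈ P, mv ρ g U'' = U'') →
      finrank F U = orderOf ((Fintype.card F : ℕ) : ZMod p) → finrank F U' = finrank F U →
      finrank F U'' = finrank F U → Opp Φ U U' → Opp Φ U U'' → U' = U''

/-- a semisimilarity `M` commuting with `P` preserves the pairs -/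
def OppPair : Prop :=
  ∀ {p : ℕ} [Fact p.Prime] {F V G : Type} [Field F] [Fintype F] [AddCommGroup V] [Module F V]
    [FiniteDimensional F V] [Group G] [Finite G] {Φ : Pol F V} {ρ : G →* (V ≃ₗ[F] V)}, LinType p Φ ρ →
    ∀ (P : Sylow p G) (U U' : Submodule F V), Φ.TI U → Φ.TI U' →
      (∀ g ∈ P, mv ρ g U = U) → (∀ g ∈ P, mv ρ g U' = U') →
      finrank F U = orderOf ((Fintype.card F : ℕ) : ZMod p) → finrank F U' = finrank F U → Opp Φ U U' →
      ∀ (M : V ≃+ V) (hM : SemiAct Φ M), (∀ g ∈ P, ∀ v, M (ρ g v) = ρ g (M v)) → hM.sub U = U ∨ hM.sub U = U'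

/-- the data of linear type (B): `S` a quotient of `H` by a central subgroup of order prime to `p`, `H` of index prime
to `p` in `G` -/
structure PolL (p : ℕ) {F V : Type*} {G H : Type*} {S : Type u} [Field F] [Fintype F] [AddCommGroup V]
    [Module F V] [Group G] [Group H] [Group S] (Φ : Pol F V) (ρ : G →* (V ≃ₗ[F] V)) (ι : H →* G)
    (ρ' : H →* (V ≃ₗ[F] V)) (π : H →* S) (K : ℕ) : Prop where
  lin : LinType p Φ ρ
  polA : PolA Φ ρ' π K
  comp : ∀ h : H, ρ (ι h) = ρ' h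
  inj : Function.Injective ι
  idx : ¬ p ∣ ι.range.index
  ker_le : π.ker ≤ Subgroup.center H
  ker_card : ¬ p ∣ Nat.card π.ker

/-- (B) -/
def RowMatch : Prop :=
  ∀ {p : ℕ} [Fact p.Prime] {F V G H : Type} {S : Type} [Field F] [Fintype F] [AddCommGroup V] [Module F V]
    [FiniteDimensional F V] [Group G] [Finite G] [Group H] [Group S] [Fintype S] {Φ : Pol F V}
    {ρ : G →* (V ≃ₗ[F] V)} {ι : H →* G} {ρ' : H →* (V ≃ₗ[F] V)} {π : H →* S} {K : ℕ}, p ≠ 2 →
    PolL p Φ ρ ι ρ' π K → orderOf ((Fintype.card F : ℕ) : ZMod p) ≤ K →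
    ∀ a : ℕ, (Nat.card (Φ.X (orderOf ((Fintype.card F : ℕ) : ZMod p))) : ZMod p) = 2 * a → (a : ZMod p) ≠ 1 → RowA p S

end Cfsg.Agent.H439.CY
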